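import Groth.Agent.LambdaLib.Pos

/-!
# The ideal of the `u - 1`, `u` a line element, and the γ-operations
-/

set_option autoImplicit false

universe v

open PowerSeries Finset LambdaRing

noncomputable section

namespace Groth.Agent.KFil28

variable {K : Type v} [CommRing K] [LambdaOps K] (P : PosStructure K)

/-- The ideal generated by the `u - 1`. -/
def lineIdeal : Ideal K := Ideal.span {x | ∃ u, P.IsLine u ∧ u - 1 = x}

variable {P}

theorem sub_one_mem {u : K} (hu : P.IsLine u) : u - 1 ∈ lineIdeal P := Ideal.subset_span ⟨u, hu, rfl⟩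

theorem map_lineIdeal {K' : Type v} [CommRing K'] [LambdaOps K'] {P' : PosStructure K'} (g : K →+* K')
    (haug : ∀ x, P'.aug (g x) = P.aug x) (hpos : ∀ e ∈ P.pos, g e ∈ P'.pos) :
    (lineIdeal P).map g ≤ lineIdeal P' := by
  rw [lineIdeal, Ideal.map_span, Ideal.span_le]
  rintro _ ⟨x, ⟨u, hu, rfl⟩, rfl⟩
  rw [map_sub, map_one]
  exact sub_one_mem ⟨hpos u hu.1, by rw [haug]; exact hu.2⟩

/-- Power series adapted to the powers of an ideal. -/
def Adapted (J : Ideal K) (f : K⟦X⟧) : Prop := ∀ k, coeff k f ∈ J ^ k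

theorem Adapted.mul {J : Ideal K} {f h : K⟦X⟧} (hf : Adapted J f) (hh : Adapted J h) : Adapted J (f * h) := fun k => by
  rw [coeff_mul]
  refine Ideal.sum_mem _ fun p hp => ?_
  rw [Finset.HasAntidiagonal.mem_antidiagonal] at hp
  rw [← hp, pow_add]
  exact Ideal.mul_mem_mul (hf _) (hh _)

theorem Adapted.one {J : Ideal K} : Adapted J (1 : K⟦X⟧) := fun k => by
  rcases Nat.eq_zero_or_pos k with rfl | h
  · simp
  · rw [coeff_one, if_neg (by omega)]; exact zero_mem _

theorem Adapted.cancel {J : Ideal K} {f h : K⟦X⟧} (hf : Adapted J f) (hfh : Adapted J (f * h))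
    (h0 : constantCoeff f = 1) : Adapted J h := fun k => by
  induction k using Nat.strong_induction_on with
  | _ k ih =>
    have hk := hfh k
    rw [coeff_mul, Finset.Nat.sum_antidiagonal_eq_sum_range_succ_mk, Finset.sum_range_succ'] at hk
    rw [coeff_zero_eq_constantCoeff_apply, h0, one_mul, Nat.sub_zero] at hk
    refine (Ideal.add_mem_iff_right _ (Ideal.sum_mem _ fun i hi => ?_)).1 hk
    rw [Finset.mem_range] at hi
    have := Ideal.mul_mem_mul (hf (i + 1)) (ih (k - (i + 1)) (by omega))
    rwa [← pow_add, show i + 1 + (k - (i + 1)) = k by omega] at this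

theorem adapted_multiset {s : Multiset K} (hs : ∀ u ∈ s, P.IsLine u) :
    Adapted (lineIdeal P) (LambdaLib.gammaSeries (s.map fun u => u - 1).sum) := by
  induction s using Multiset.induction_on with
  | empty => simpa [LambdaLib.gammaSeries_zero] using Adapted.one
  | cons u s ih =>
    rw [Multiset.map_cons, Multiset.sum_cons, LambdaLib.gammaSeries_add]
    refine Adapted.mul ?_ (ih fun w hw => hs w (Multiset.mem_cons_of_mem hw))
    have hu := hs u (Multiset.mem_cons_self _ _)
    rw [LambdaLib.gammaSeries_line_sub_one (LambdaLib.lam_one_eq_zero P) (LambdaLib.lam_line_eq_zero P hu)]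
    intro k
    rcases k with _ | _ | k
    · simp
    · simpa [coeff_C] using sub_one_mem hu
    · simp [coeff_C, coeff_one, coeff_mul_X_pow', PowerSeries.coeff_succ_mul_X, coeff_X]

/-- `γ^k` of a difference of two sums of `n` lines lies in the `k`-th power. -/
theorem gamma_mem_pow {s t : Multiset K} (hs : ∀ u ∈ s, P.IsLine u) (ht : ∀ u ∈ t, P.IsLine u)
    (hcard : s.card = t.card) (k : ℕ) : gamma k (s.sum - t.sum) ∈ lineIdeal P ^ k := by
  have hsub : ∀ w : Multiset K, (w.map fun u => u - 1).sum = w.sum - (w.card : K) := fun w => by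
    induction w using Multiset.induction_on with
    | empty => simp
    | cons a w ih => simp [ih]; ring
  have hx : s.sum - t.sum + (t.map fun u => u - 1).sum = (s.map fun u => u - 1).sum := by
    rw [hsub, hsub, hcard]; ring
  rw [← LambdaLib.coeff_gammaSeries]
  refine (adapted_multiset ht).cancel ?_ ?_ k
  · rw [← LambdaLib.gammaSeries_add, add_comm, hx]
    exact adapted_multiset hs
  · rw [← coeff_zero_eq_constantCoeff_apply, LambdaLib.coeff_gammaSeries, LambdaLib.gamma_zero]

/-- A product of `γ`'s of differences of sums of lines. -/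
theorem prod_gamma_mem_pow (l : List (ℕ × K))
    (hl : ∀ p ∈ l, ∃ s t : Multiset K, (∀ u ∈ s, P.IsLine u) ∧ (∀ u ∈ t, P.IsLine u) ∧ s.card = t.card ∧
      p.2 = s.sum - t.sum) :
    (l.map fun p => gamma p.1 p.2).prod ∈ lineIdeal P ^ (l.map Prod.fst).sum := by
  induction l with
  | nil => simp
  | cons p l ih =>
    obtain ⟨s, t, hs, ht, hc, hp⟩ := hl p (by simp)
    rw [List.map_cons, List.map_cons, List.prod_cons, List.sum_cons, pow_add, hp]
    exact Ideal.mul_mem_mul (gamma_mem_pow hs ht hc _) (ih fun q hq => hl q (List.mem_cons_of_mem _ hq))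

end Groth.Agent.KFil28
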