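import Groth.Agent.KFil28.Vanish
import Groth.Agent.KFil28.Dim
import Groth.Agent.KPr28.Reg
import Groth.Agent.AmpleLib.Compose

/-!
# Splitting covers with a bound on the dimension

For a tower `f : Y → X` of projective bundles there is `c`, a product of `e` classes `u - 1`, with
`a ↦ c * f^* a` injective and `dim Y ≤ dim X + e`.
-/

set_option autoImplicit false
set_option linter.style.haveILetI false
set_option backward.isDefEq.respectTransparency false

universe u

open CategoryTheory CategoryTheory.Limits AlgebraicGeometry TopologicalSpace Finset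
open Groth.Agent.Coherent LambdaRing

noncomputable section

namespace Groth.Agent.KFil28

/-- Noetherian, connected, with an ample module. -/
def Base (A : Scheme.{u}) : Prop :=
  IsNoetherian A ∧ ConnectedSpace ↥A ∧ ∃ L : A.Modules, CohB1.IsAmple L

/-- A cover which bounds the dimension and the γ-filtration. -/
def Good {A B : Scheme.{u}} (f : A ⟶ B) : Prop :=
  ConnectedSpace ↥A ∧ ∃ e : ℕ, (∀ N : ℕ, topologicalKrullDim ↥B ≤ (N : WithBot ℕ∞) →
      topologicalKrullDim ↥A ≤ ((N + e : ℕ) : WithBot ℕ∞)) ∧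
    ∀ (KA : Type (u + 1)) [CommRing KA] [LambdaOps KA] (PA : PosStructure KA) (φA : SGA6.Kvb A →+ KA)
      (KB : Type (u + 1)) [CommRing KB] [LambdaOps KB] (PB : PosStructure KB) (φB : SGA6.Kvb B →+ KB),
      KRR.IsModel A KA PA φA → KRR.IsModel B KB PB φB →
      ∀ g : KB →+* KA, KRR.IsPull f φB φA g.toAddMonoidHom →
        ∃ c ∈ lineIdeal PA ^ e, Function.Injective fun a => c * g a

theorem good_id (A : Scheme.{u}) (h : Base A) : Good (𝟙 A) := by
  refine ⟨h.2.1, 0, fun N hN => by simpa using hN, ?_⟩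
  intro KA _ _ PA φA KB _ _ PB φB hA hB g hg
  refine ⟨1, by simp, fun a b hab => ?_⟩
  simp only [one_mul] at hab
  obtain ⟨a, rfl⟩ := hB.bijective.2 a
  obtain ⟨b, rfl⟩ := hB.bijective.2 b
  have key : ∀ z, g (φB z) = φA z := fun z => by
    refine KvbLam28.kvb_induction (P := fun z => g (φB z) = φA z) (by simp) (fun E hE => ?_)
      (fun x h => by simp [h]) (fun x y hx hy => by simp [hx, hy]) z
    exact (hg E hE).trans (congrArg φA (ExtFilt28.clv_iso ((Scheme.Modules.pullbackId A).app E)))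
  rw [key, key] at hab
  rw [hA.bijective.1 hab]

theorem good_comp {A B C : Scheme.{u}} {g : A ⟶ B} {f : B ⟶ C}
    [ConnectedSpace ↥C] (hg : Good g) (hf : Good f) : Good (g ≫ f) := by
  obtain ⟨hAc, e₁, d₁, h₁⟩ := hg
  obtain ⟨hBc, e₂, d₂, h₂⟩ := hf
  haveI := hAc
  haveI := hBc
  refine ⟨hAc, e₂ + e₁, fun N hN => by rw [← add_assoc]; exact d₁ _ (d₂ N hN), ?_⟩
  intro KA _ _ PA φA KC _ _ PC φC hA hC G hG
  obtain ⟨KB, _, _, PB, φB, hB⟩ := KModel28.exists_model B
  obtain ⟨g', hg', -, haug, hpos⟩ := KSplit28.exists_pullHom g hA hB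
  obtain ⟨f', hf', -, -, -⟩ := KSplit28.exists_pullHom f hB hC
  obtain ⟨c₁, hc₁, i₁⟩ := h₁ KA PA φA KB PB φB hA hB g' hg'
  obtain ⟨c₂, hc₂, i₂⟩ := h₂ KB PB φB KC PC φC hB hC f' hf'
  have hGeq : G.toAddMonoidHom = g'.toAddMonoidHom.comp f'.toAddMonoidHom := by
    refine KSplit28.isPull_unique (g ≫ f) hC.bijective hG fun E hE => ?_
    show g' (f' (φC (KRR.cl C E))) = _
    rw [show f' (φC (KRR.cl C E)) = _ from hf' E hE]
    exact (hg' _ (DCat.PullPerf.isFinLocFree_pullback f hE)).trans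
      (congrArg φA (ExtFilt28.clv_iso ((Scheme.Modules.pullbackComp g f).app E)))
  refine ⟨g' c₂ * c₁, ?_, fun a b hab => i₂ (i₁ ?_)⟩
  · rw [pow_add]
    refine Ideal.mul_mem_mul ?_ hc₁
    exact (Ideal.pow_right_mono (map_lineIdeal g' haug hpos) e₂)
      (by rw [← Ideal.map_pow]; exact Ideal.mem_map_of_mem _ hc₂)
  · have hGa : ∀ a, G a = g' (f' a) := fun a => DFunLike.congr_fun hGeq a
    simp only [hGa] at hab
    show c₁ * g' (c₂ * f' a) = c₁ * g' (c₂ * f' b)
    rw [map_mul, map_mul]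
    linear_combination hab

/-- A projective bundle. -/
theorem bundle {P T : Scheme.{u}} {r : ℕ} {E : T.Modules} {π : P ⟶ T} {O1 : P.Modules}
    {q : (Scheme.Modules.pullback π).obj E ⟶ O1} (hT : Base T) (hE : FlatMod.IsFinLocFreeOfRank (r + 1) E)
    (hPB : KRR.IsProjBundle π E O1 q) : Base P ∧ Good π := by
  classical
  obtain ⟨hTN, hTC, A, hA⟩ := hT
  haveI := hTN
  haveI := hTC
  have H := KPB28.locPn_of_isProjBundle hE hPB
  haveI := H.isProper
  haveI hPN := KSplit28.isNoetherian H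
  haveI hPC := KSplit28.connectedSpace H
  have hrel : RelAmple.IsRelAmple π O1 := by
    refine AmpleLib.isRelAmple_of_affine_cover π H.invertible fun t => ?_
    obtain ⟨V, φ, ψ, hφ, hV, hsq, ht, ⟨eψ⟩⟩ := H.chart t
    haveI := hV
    haveI := KPr28.isOpenImmersion_of_sq hsq
    refine ⟨⟨φ.opensRange, isAffineOpen_opensRange φ⟩, ht, ?_⟩
    let W : P.Opens := π ⁻¹ᵁ φ.opensRange
    have hrange : Set.range W.ι ⊆ Set.range ψ.base := by
      rw [Scheme.Opens.range_ι]
      intro x hx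
      obtain ⟨v, hv⟩ := hx
      have hx' : x ∈ π ⁻¹ᵁ (φ ''ᵁ ⊤) := ⟨v, trivial, hv⟩
      rw [← KPr28.image_preimage_of_sq hsq] at hx'
      obtain ⟨z, -, hz⟩ := hx'
      exact ⟨z, hz⟩
    let σ := IsOpenImmersion.lift ψ W.ι hrange
    haveI : CompactSpace (W : Scheme.{u}) := isCompact_iff_compactSpace.1
      (QuasiCompact.isCompact_preimage _ φ.opensRange.2 (isAffineOpen_opensRange φ).isCompact)
    refine AmpleLib.isAmple_pullback_congr (IsOpenImmersion.lift_fac ψ W.ι hrange)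
      ((AmpleLib.isAmple_pullback_comp_iff σ ψ).1 ?_)
    refine AmpleLib.isAmple_of_iso ((Scheme.Modules.pullback σ).mapIso eψ.symm) ?_
    haveI : QuasiCompact (KRR.pr r V) := (KPr28.isRelAmple_twist (n := r) (Y := V)).1
    haveI : CompactSpace (KRR.PY r V) := QuasiCompact.compactSpace_of_compactSpace (KRR.pr r V)
    refine AmpleLib.isAmple_pullback_of_isOpenImmersion σ ?_
    have htop := ((AmpleLib.isRelAmple_iff (KRR.pr r V)).1 KPr28.isRelAmple_twist).2 ⟨⊤, isAffineOpen_top V⟩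
    let τ : KRR.PY r V ⟶ ((KRR.pr r V ⁻¹ᵁ ⊤ : (KRR.PY r V).Opens) : Scheme.{u}) :=
      IsOpenImmersion.lift ((KRR.pr r V ⁻¹ᵁ ⊤ : (KRR.PY r V).Opens)).ι (𝟙 _) (fun z _ => by
        rw [Scheme.Opens.range_ι]; exact trivial)
    exact AmpleLib.isAmple_of_iso ((Scheme.Modules.pullbackId _).app _)
      (AmpleLib.isAmple_pullback_congr (IsOpenImmersion.lift_fac _ (𝟙 _) _)
        ((AmpleLib.isAmple_pullback_comp_iff τ _).1 (AmpleLib.isAmple_pullback_of_isOpenImmersion τ htop)))
  obtain ⟨n, hn⟩ := AmpleLib.eventually_isAmple_tensor_pullback π hA hrel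
  refine ⟨⟨hPN, hPC, _, hn n le_rfl⟩, hPC, r, fun N hN => ?_, ?_⟩
  · refine (topologicalKrullDim_bundle_le hE hPB).trans ?_
    push_cast
    exact add_le_add hN le_rfl
  intro KA _ _ PA φA KB _ _ PB φB hA' hB G hG
  obtain ⟨-, -, KP, _, _, PP, φP, g, hKP, hg, -, hbasis⟩ := KSplit28.exists_bundle_data hE hPB hB
  obtain ⟨ε, hε, hεφ, -, hεaug⟩ := KSplit28.exists_iso hKP hA'
  have hGeq : G.toAddMonoidHom = (ε.comp g).toAddMonoidHom := by
    refine KSplit28.isPull_unique π hB.bijective hG fun F hF => ?_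
    show ε (g (φB (KRR.cl T F))) = _
    rw [show g (φB (KRR.cl T F)) = _ from hg F hF, hεφ]
  have hGa : ∀ a, G a = ε (g a) := fun a => DFunLike.congr_fun hGeq a
  refine ⟨ε ((φP (KRR.cl P O1) - 1) ^ r), ?_, fun a b hab => ?_⟩
  · rw [map_pow, map_sub, map_one, hεφ]
    exact Ideal.pow_mem_pow (sub_one_mem (isLine_cl hA' hPB.invertible)) r
  · simp only [hGa, ← map_mul] at hab
    have h := hε.1 hab
    let co : KB → Fin (r + 1) → KB := fun a i => a * ((-1 : KB) ^ (r - (i : ℕ)) * (r.choose i : KB))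
    have hco : ∀ a, (φP (KRR.cl P O1) - 1) ^ r * g a =
        ∑ i : Fin (r + 1), g (co a i) * φP (KRR.cl P O1) ^ (i : ℕ) := fun a => by
      rw [KSplit28.pow_sub_one_eq, Finset.sum_mul, Finset.sum_range]
      refine Finset.sum_congr rfl fun i _ => ?_
      simp only [co, map_mul, map_pow, map_neg, map_one, map_natCast]
      ring
    rw [hco, hco] at h
    have := congrFun (hbasis.1 h) (Fin.last r)
    simpa [co] using this

/-- Finitely many bundles are sums of lines after a good cover. -/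
theorem exists_cover : ∀ (l : List ℕ) {S : Scheme.{u}}, Base S → ∀ E : ℕ → S.Modules,
    (∀ i, i < l.length → FlatMod.IsFinLocFreeOfRank (l.getD i 0) (E i)) →
    ∃ (S' : Scheme.{u}) (f : S' ⟶ S), Base S' ∧ Good f ∧ ∀ i, i < l.length →
      ∃ L : Fin (l.getD i 0) → S'.Modules, (∀ j, FlatMod.IsFinLocFreeOfRank 1 (L j)) ∧
        KRR.cl S' ((Scheme.Modules.pullback f).obj (E i)) = ∑ j, KRR.cl S' (L j) := by
  intro l
  induction l with
  | nil => intro S hS E _; exact ⟨S, 𝟙 S, hS, good_id S hS, fun i hi => absurd hi (by simp)⟩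
  | cons n l ih =>
    intro S hS E hE
    obtain ⟨S₁, f₁, hS₁, hf₁, L, hL, hsum⟩ := KSplit28.exists_split Base Good (fun {A} h => good_id A h)
      (fun {A B C g f} _ hC hg hf => by
        haveI := hC.2.1
        exact good_comp hg hf)
      (fun hT hE hPB => bundle hT hE hPB) n hS (E 0) (hE 0 (by simp))
    obtain ⟨S₂, f₂, hS₂, hf₂, h₂⟩ := ih hS₁ (fun i => (Scheme.Modules.pullback f₁).obj (E (i + 1)))
      fun i hi => VarietyLib.isFinLocFreeOfRank_pullback f₁ (by simpa using hE (i + 1) (by simpa using hi))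
    haveI := hS.2.1
    haveI := hS₁.2.1
    haveI := hS₂.2.1
    refine ⟨S₂, f₂ ≫ f₁, hS₂, good_comp hf₂ hf₁, fun i hi => ?_⟩
    have hcomp : ∀ F : S.Modules, KRR.cl S₂ ((Scheme.Modules.pullback (f₂ ≫ f₁)).obj F) =
        KRR.cl S₂ ((Scheme.Modules.pullback f₂).obj ((Scheme.Modules.pullback f₁).obj F)) := fun F =>
      (ExtFilt28.clv_iso ((Scheme.Modules.pullbackComp f₂ f₁).app F)).symm
    rcases i with _ | i
    · refine ⟨fun j => (Scheme.Modules.pullback f₂).obj (L j),
        fun j => VarietyLib.isFinLocFreeOfRank_pullback f₂ (hL j), ?_⟩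
      obtain ⟨p, hp⟩ := KPull28.exists_pull f₂
      have := congrArg p hsum
      rw [map_sum, hp _ (DCat.PullPerf.isFinLocFree_pullback f₁ (VarietyLib.isFinLocFree_of_rank (hE 0 (by simp))))] at this
      rw [hcomp, this]
      exact Finset.sum_congr rfl fun j _ => hp _ (VarietyLib.isFinLocFree_of_rank (hL j))
    · obtain ⟨L', hL', hsum'⟩ := h₂ i (by simpa using hi)
      exact ⟨L', hL', (hcomp _).trans hsum'⟩

end Groth.Agent.KFil28
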