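import Groth.Agent.KSplit28.Ample
import Groth.Agent.KFil28.Lines
import Groth.Agent.PicLib.TwistGen
import Groth.Agent.CAlgH3.AmpleCodimOne
import Groth.Agent.Desc19b.AmpleQuot
import Groth.Agent.CommAlg6.DimMaps

/-!
# Products of more than `dim X` classes `[L] - 1` vanish

With an ample module every `[L] - 1` is a combination of `[M] - 1` with `M` having a section which
does not vanish at given finitely many points; a surjection `⨁ Mᵢ⁻¹ → O` gives `∏ (1 - [Mᵢ⁻¹]) = 0`.
-/

set_option autoImplicit false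
set_option linter.style.haveILetI false
set_option backward.isDefEq.respectTransparency false

universe u v

open CategoryTheory CategoryTheory.Limits AlgebraicGeometry TopologicalSpace Finset
open Groth.Agent.Coherent Groth.Agent.AmpleLib LambdaRing

noncomputable section

namespace Groth.Agent.KFil28

section alg

variable {K : Type v} [CommRing K] [LambdaOps K] {P : PosStructure K}

/-- If a sum of `n + 1` lines is `k + 1` with `λ^i k = 0` for `i > n`, then `∏ (1 - lᵢ) = 0`. -/
theorem prod_one_sub_eq_zero {n : ℕ} (l : Fin (n + 1) → K) (hl : ∀ i, P.IsLine (l i)) {k : K}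
    (hk : ∀ i, n < i → LambdaOps.lam i k = 0) (h : ∑ i, l i = k + 1) : ∏ i, (1 - l i) = 0 := by
  let Pk : Polynomial K := PowerSeries.trunc (n + 1) (lamSeries k)
  have hPk : (Pk : PowerSeries K) = lamSeries k := by
    ext i
    rw [Polynomial.coeff_coe, PowerSeries.coeff_trunc, LambdaLib.coeff_lamSeries]
    split_ifs with hi
    · rfl
    · exact (hk i (by omega)).symm
  have key : (∏ i, (1 + Polynomial.C (l i) * Polynomial.X) : Polynomial K) = Pk * (1 + Polynomial.X) := by
    apply Polynomial.coe_injective K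
    rw [Polynomial.coe_mul, hPk, Polynomial.coe_add, Polynomial.coe_one, Polynomial.coe_X,
      ← LambdaLib.lamSeries_one (LambdaLib.lam_one_eq_zero P), ← LambdaLib.lamSeries_add, ← h,
      LambdaLib.lamSeries_sum, ← Polynomial.coeToPowerSeries.ringHom_apply, map_prod]
    refine Finset.prod_congr rfl fun i _ => ?_
    rw [LambdaLib.lamSeries_of_line (LambdaLib.lam_line_eq_zero P (hl i))]
    simp
  simpa [Polynomial.eval_prod, sub_eq_add_neg] using congrArg (Polynomial.eval (-1)) key

end alg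

variable {X : Scheme.{u}} {K : Type v} [CommRing K] [LambdaOps K] {P : PosStructure K} {φ : SGA6.Kvb X →+ K}

theorem isLine_cl (hX : KRR.IsModel X K P φ) {L : X.Modules} (hL : FlatMod.IsFinLocFreeOfRank 1 L) :
    P.IsLine (φ (KRR.cl X L)) :=
  ⟨(hX.mem_pos_iff _).2 ⟨1, L, le_rfl, hL, rfl⟩, hX.aug_cl 1 L hL⟩

theorem exists_line_module [ConnectedSpace ↥X] (hX : KRR.IsModel X K P φ) {l : K} (hl : P.IsLine l) :
    ∃ L : X.Modules, FlatMod.IsFinLocFreeOfRank 1 L ∧ φ (KRR.cl X L) = l := by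
  obtain ⟨n, L, -, hL, rfl⟩ := (hX.mem_pos_iff _).1 hl.1
  have h := hX.aug_cl n L hL
  rw [hl.2] at h
  obtain rfl : n = 1 := by exact_mod_cast h.symm
  exact ⟨L, hL, rfl⟩

/-- Finitely many invertible modules with sections without a common zero. -/
theorem prod_sub_one_eq_zero (hX : KRR.IsModel X K P φ) {n : ℕ} (L : Fin (n + 1) → X.Modules)
    (hL : ∀ i, FlatMod.IsFinLocFreeOfRank 1 (L i)) (t : ∀ i, Γ(L i, ⊤))
    (hcov : ∀ x : X, ∃ i, x ∈ glocus (L i) (t i)) : ∏ i, (φ (KRR.cl X (L i)) - 1) = 0 := by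
  classical
  have hLi : ∀ i, PicF.IsInvertible (L i) := fun i => KRRPBLib.isInvertible_of_rankOne (hL i)
  choose N hN using fun i => VarietyLib.exists_isInverseOf (hLi i)
  have e : ∀ i, CohB1.tensorMod (L i) (N i) ≅ Coh.structureModule X := fun i => (hN i).some
  have hNi : ∀ i, PicF.IsInvertible (N i) := fun i =>
    MorProj.isInvertible_of_tensor_iso (AmpleLib.tensorComm _ _ ≪≫ e i)
  have hψ : ∀ i, ∃ ψ : CohB1.tensorMod (Coh.structureModule X) (N i) ⟶ Coh.structureModule X,
      ∀ y ∈ glocus (L i) (t i), ∃ (W : X.Opens) (_ : W ≤ glocus (L i) (t i)), y ∈ W ∧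
        ∃ k, ψ.app W k = oneSec W := fun i => by
    obtain ⟨ψ, hψ⟩ := Desc19b.exists_hom_of_twist_section (Coh.structureModule X) (hLi i) (e i)
      (tmul (oneSec (⊤ : X.Opens)) (t i)) (oneSec (glocus (L i) (t i))) (resM _ le_top (t i))
      (isGen_glocus (t i)) (by rw [resM_tmul, resM_oneSec])
    refine ⟨ψ, fun y hy => ?_⟩
    obtain ⟨W, hW, hyW, k, hk⟩ := hψ y hy
    exact ⟨W, hW, hyW, k, by rw [hk, resM_oneSec]⟩
  choose ψ hψ using hψ
  let N' : Fin (n + 1) → X.Modules := fun i => CohB1.tensorMod (Coh.structureModule X) (N i)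
  have hN' : ∀ i, FlatMod.IsFinLocFreeOfRank 1 (N' i) := fun i =>
    PicLib.isFinLocFreeOfRank_one (AmpleLib.isInvertible_tensorMod AmpleLib.isInvertible_structureModule (hNi i))
  have hE : ∀ k (hk : k ≤ n + 1), ∃ (E : X.Modules) (f : E ⟶ Coh.structureModule X),
      FlatMod.IsFinLocFreeOfRank k E ∧
      φ (KRR.cl X E) = ∑ i : Fin k, φ (KRR.cl X (N' (Fin.castLE hk i))) ∧
      ∀ (i : Fin k) (y : X), y ∈ glocus (L (Fin.castLE hk i)) (t (Fin.castLE hk i)) →
        ∃ (W : X.Opens), y ∈ W ∧ ∃ z, f.app W z = oneSec W := by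
    intro k
    induction k with
    | zero =>
      intro hk
      refine ⟨FlatMod.freeMod X 0, 0, VarietyLib.isFinLocFreeOfRank_freeMod 0, ?_, fun i => i.elim0⟩
      rw [KModel28.cl_isZero KModel28.freeMod_zero_isZero, map_zero, Finset.univ_eq_empty, Finset.sum_empty]
    | succ k ih =>
      intro hk
      obtain ⟨E, f, hE, hcl, hf⟩ := ih (Nat.le_of_succ_le hk)
      let j : Fin (n + 1) := ⟨k, hk⟩
      have hs := (ShortComplex.Splitting.ofHasBinaryBiproduct E (N' j)).shortExact
      have hEN : FlatMod.IsFinLocFreeOfRank (k + 1) (E ⊞ N' j) :=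
        CycLib28.PB.Ops.isFinLocFreeOfRank_extension hs hE (hN' j)
      refine ⟨E ⊞ N' j, biprod.desc f (ψ j), hEN, ?_, fun i y hy => ?_⟩
      · rw [Fin.sum_univ_castSucc]
        refine (congrArg φ (ExtFilt28.clv_ses hs (VarietyLib.isFinLocFree_of_rank hE)
          (VarietyLib.isFinLocFree_of_rank hEN) (VarietyLib.isFinLocFree_of_rank (hN' j)))).trans ?_
        rw [map_add]
        exact congrArg₂ (· + ·) hcl rfl
      · induction i using Fin.lastCases with
        | last =>
          obtain ⟨W, -, hyW, z, hz⟩ := hψ j y hy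
          refine ⟨W, hyW, (biprod.inr : N' j ⟶ E ⊞ N' j).app W z, ?_⟩
          show ((biprod.inr : N' j ⟶ E ⊞ N' j) ≫ biprod.desc f (ψ j)).app W z = _
          rw [biprod.inr_desc]
          exact hz
        | cast i =>
          obtain ⟨W, hyW, z, hz⟩ := hf i y hy
          refine ⟨W, hyW, (biprod.inl : E ⟶ E ⊞ N' j).app W z, ?_⟩
          show ((biprod.inl : E ⟶ E ⊞ N' j) ≫ biprod.desc f (ψ j)).app W z = _
          rw [biprod.inl_desc]
          exact hz
  obtain ⟨E, f, hE, hcl, hf⟩ := hE (n + 1) le_rfl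
  haveI : Epi f := epi_of_locally_surjective _ fun W v y hy => by
    obtain ⟨i, hi⟩ := hcov y
    obtain ⟨W', hyW', z, hz⟩ := hf ⟨i.1, i.2⟩ y hi
    refine ⟨W ⊓ W', inf_le_left, ⟨hy, hyW'⟩,
      (show Γ(X, W ⊓ W') from resM (Coh.structureModule X) inf_le_left v) •
        resM E (inf_le_right : W ⊓ W' ≤ W') z, ?_⟩
    rw [Scheme.Modules.Hom.app_smul, app_resM, hz, resM_oneSec]
    exact mul_one (M := Γ(X, W ⊓ W')) _
  have hK := CycLib28.PB.Ops.isFinLocFreeOfRank_kernel_line hE AmpleLib.isInvertible_structureModule f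
  have hseq : (ShortComplex.mk (kernel.ι f) f (kernel.condition f)).ShortExact :=
    ShortComplex.ShortExact.mk' (ShortComplex.exact_of_f_is_kernel _ (kernelIsKernel _)) inferInstance inferInstance
  have hsum : ∑ i, φ (KRR.cl X (N' i)) = φ (KRR.cl X (kernel f)) + 1 := by
    rw [← hX.map_one, ← map_add]
    exact hcl.symm.trans (congrArg φ (ExtFilt28.clv_ses hseq (VarietyLib.isFinLocFree_of_rank hK)
      (VarietyLib.isFinLocFree_of_rank hE) KvbLam28.isFinLocFree_structure))
  have hk : ∀ i, n < i → LambdaOps.lam i (φ (KRR.cl X (kernel f))) = 0 := fun i hi => by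
    rcases Nat.eq_zero_or_pos n with rfl | hn
    · rw [KModel28.cl_isZero (KModel28.isZero_of_rank_zero hK), map_zero, LambdaLib.lam_apply_zero _ (by omega)]
    · exact P.lam_eq_zero _ ((hX.mem_pos_iff _).2 ⟨n, _, hn, hK, rfl⟩) _ (by rw [hX.aug_cl n _ hK]; exact_mod_cast hi)
  have h0 := prod_one_sub_eq_zero (P := P) (fun i => φ (KRR.cl X (N' i))) (fun i => isLine_cl hX (hN' i)) hk hsum
  have hprod : ∀ i, φ (KRR.cl X (L i)) - 1 = φ (KRR.cl X (L i)) * (1 - φ (KRR.cl X (N' i))) := fun i => by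
    rw [mul_sub, mul_one, hX.map_mul _ _ (VarietyLib.isFinLocFree_of_rank (hL i))
      (VarietyLib.isFinLocFree_of_rank (hN' i))]
    refine (congrArg₂ (fun a b => a - b) rfl ((congrArg φ (ExtFilt28.clv_iso ?_)).trans hX.map_one)).symm
    exact AmpleLib.tensorIso (Iso.refl _) (unitTensorIso (N i)) ≪≫ e i
  rw [Finset.prod_congr rfl fun i _ => hprod i, Finset.prod_mul_distrib, h0, mul_zero]

/-- Chains of specializations in `Z` have length at most `N - j`. -/
def Deep (Z : Set X) (N j : ℕ) : Prop :=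
  ∀ (m : ℕ) (c : Fin (m + 1) → X), (∀ i, c i ∈ Z) →
    (∀ i : Fin m, c i.succ ⤳ c i.castSucc ∧ c i.succ ≠ c i.castSucc) → m + j ≤ N

theorem deep_univ {N : ℕ} (hdim : topologicalKrullDim ↥X ≤ (N : WithBot ℕ∞)) : Deep (Set.univ : Set X) N 0 := by
  intro m c _ hc
  rw [CommAlg6.topologicalKrullDim_eq_krullDim_points] at hdim
  letI := specializationOrder X
  let p : LTSeries X := LTSeries.mk m c (Fin.strictMono_iff_lt_succ.2 fun i =>
    lt_of_le_of_ne (hc i).1 fun h => (hc i).2 h.symm)
  have h := (Order.LTSeries.length_le_krullDim p).trans hdim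
  have h' : m ≤ N := by exact_mod_cast h
  omega

/-- Products of more than `dim X` classes `[L] - 1` vanish. -/
theorem lineIdeal_pow_eq_bot [IsNoetherian X] [ConnectedSpace ↥X] (hX : KRR.IsModel X K P φ) {A : X.Modules}
    (hA : CohB1.IsAmple A) {N : ℕ} (hdim : topologicalKrullDim ↥X ≤ (N : WithBot ℕ∞)) :
    lineIdeal P ^ (N + 1) = ⊥ := by
  classical
  let S : ℕ → Set K := fun j => {z | ∃ (L : Fin j → X.Modules) (t : ∀ i, Γ(L i, ⊤)),
    (∀ i, FlatMod.IsFinLocFreeOfRank 1 (L i)) ∧ Deep {x : X | ∀ i, x ∉ glocus (L i) (t i)} N j ∧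
      ∏ i, (φ (KRR.cl X (L i)) - 1) = z}
  have hstep : ∀ j, Ideal.span (S j) * lineIdeal P ≤ Ideal.span (S (j + 1)) := fun j => by
    rw [lineIdeal, Ideal.span_mul_span', Ideal.span_le]
    rintro _ ⟨z, ⟨L, t, hL, hdeep, rfl⟩, _, ⟨u, hu, rfl⟩, rfl⟩
    obtain ⟨M, hM, rfl⟩ := exists_line_module hX hu
    let Z : Set X := {x : X | ∀ i, x ∉ glocus (L i) (t i)}
    have hZ : IsClosed Z := by
      simp only [Z, Set.setOf_forall]
      exact isClosed_iInter fun i => (glocus (L i) (t i)).2.isClosed_compl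
    obtain ⟨hfin, hgen⟩ := CAlgH3.AmpleOne.finite_gens_and_exists hZ
    obtain ⟨N₁, h₁⟩ := PicLib.exists_twist_gen_of_finite hA (KRRPBLib.isInvertible_of_rankOne hM) _ hfin
    obtain ⟨N₂, h₂⟩ := PicLib.exists_twist_gen_of_finite hA AmpleLib.isInvertible_structureModule _ hfin
    let B := CohB1.tensorPow A (max N₁ N₂)
    have hB := PicLib.isFinLocFreeOfRank_one (AmpleLib.isInvertible_tensorPow hA.1 (max N₁ N₂))
    have hnew : ∀ (M' : X.Modules), FlatMod.IsFinLocFreeOfRank 1 M' → ∀ s : Γ(M', ⊤),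
        CAlgH3.AmpleOne.gens Z ⊆ glocus M' s →
        (∏ i, (φ (KRR.cl X (L i)) - 1)) * (φ (KRR.cl X M') - 1) ∈ Ideal.span (S (j + 1)) := by
      intro M' hM' s hs
      let L' : Fin (j + 1) → X.Modules := Fin.snoc L M'
      have hls : M' = L' (Fin.last j) := by simp [L']
      have hcs : ∀ i : Fin j, L i = L' i.castSucc := fun i => by simp [L']
      let t' : ∀ i, Γ(L' i, ⊤) := Fin.lastCases
        (cast (congrArg (fun Q : X.Modules => (Γ(Q, ⊤) : Type u)) hls) s)
        fun i => cast (congrArg (fun Q : X.Modules => (Γ(Q, ⊤) : Type u)) (hcs i)) (t i)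
      have hg : ∀ {Q Q' : X.Modules} (h : Q = Q') (q : Γ(Q, ⊤)),
          glocus Q' (cast (congrArg (fun Q : X.Modules => (Γ(Q, ⊤) : Type u)) h) q) = glocus Q q := fun h q => by
        subst h; rfl
      refine Ideal.subset_span ⟨L', t', fun i => ?_, fun m c hc hlt => ?_, ?_⟩
      · induction i using Fin.lastCases with
        | last => simpa [L'] using hM'
        | cast i => simpa [L'] using hL i
      · have hcZ : ∀ k, c k ∈ Z := fun k i => by
          have := hc k i.castSucc
          simp only [t', Fin.lastCases_castSucc] at this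
          rwa [hg (hcs i)] at this
        have hlast : c (Fin.last m) ∉ glocus M' s := by
          have := hc (Fin.last m) (Fin.last j)
          simp only [t', Fin.lastCases_last] at this
          rwa [hg hls] at this
        obtain ⟨η, hη, hηc⟩ := hgen _ (hcZ (Fin.last m))
        have hne : η ≠ c (Fin.last m) := fun h => hlast (h ▸ hs hη)
        have h := hdeep (m + 1) (Fin.snoc c η) (fun k => by
          induction k using Fin.lastCases with
          | last => rw [Fin.snoc_last]; exact hη.1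
          | cast k => rw [Fin.snoc_castSucc]; exact hcZ k) fun k => by
          induction k using Fin.lastCases with
          | last => rw [Fin.succ_last, Fin.snoc_last, Fin.snoc_castSucc]; exact ⟨hηc, hne⟩
          | cast k =>
            rw [Fin.succ_castSucc, Fin.snoc_castSucc, Fin.snoc_castSucc]; exact hlt k
        omega
      · rw [Fin.prod_univ_castSucc]
        simp [L']
    obtain ⟨s₁, hs₁⟩ := h₁ _ (le_max_left N₁ N₂)
    obtain ⟨s₂, hs₂⟩ := h₂ _ (le_max_right N₁ N₂)
    have hMB := PicLib.isFinLocFreeOfRank_one (AmpleLib.isInvertible_tensorMod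
      (KRRPBLib.isInvertible_of_rankOne hM) (AmpleLib.isInvertible_tensorPow hA.1 (max N₁ N₂)))
    have hOB := PicLib.isFinLocFreeOfRank_one (AmpleLib.isInvertible_tensorMod
      AmpleLib.isInvertible_structureModule (AmpleLib.isInvertible_tensorPow hA.1 (max N₁ N₂)))
    have e₁ := hnew _ hMB s₁ hs₁
    have e₂ := hnew _ hOB s₂ hs₂
    have c₁ : φ (KRR.cl X (CohB1.tensorMod M B)) = φ (KRR.cl X M) * φ (KRR.cl X B) :=
      (hX.map_mul M B (VarietyLib.isFinLocFree_of_rank hM) (VarietyLib.isFinLocFree_of_rank hB)).symm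
    have c₂ : φ (KRR.cl X (CohB1.tensorMod (Coh.structureModule X) B)) = φ (KRR.cl X B) := by
      refine (hX.map_mul _ B KvbLam28.isFinLocFree_structure (VarietyLib.isFinLocFree_of_rank hB)).symm.trans ?_
      rw [hX.map_one, one_mul]
    rw [c₁] at e₁
    rw [c₂] at e₂
    obtain ⟨b', hb'⟩ := (LambdaLib.isUnit_of_isLine P (isLine_cl hX hB)).exists_right_inv
    have hm := Ideal.mul_mem_left _ b' (Ideal.sub_mem _ e₁ e₂)
    refine (congrArg (· ∈ Ideal.span (S (j + 1))) ?_).mp hm
    show _ = (∏ i, (φ (KRR.cl X (L i)) - 1)) * (φ (KRR.cl X M) - 1)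
    linear_combination ((∏ i, (φ (KRR.cl X (L i)) - 1)) * (φ (KRR.cl X M) - 1)) * hb'
  have hpow : ∀ j, lineIdeal P ^ j ≤ Ideal.span (S j) := fun j => by
    induction j with
    | zero =>
      rw [pow_zero, Ideal.one_eq_top, top_le_iff, Ideal.eq_top_iff_one]
      exact Ideal.subset_span ⟨fun i => i.elim0, fun i => i.elim0, fun i => i.elim0,
        fun m c hc h => deep_univ hdim m c (fun _ => trivial) h, by simp⟩
    | succ j ih => exact pow_succ (lineIdeal P) j ▸ (Ideal.mul_mono_left ih).trans (hstep j)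
  refine eq_bot_iff.2 ((hpow _).trans (Ideal.span_le.2 ?_))
  rintro _ ⟨L, t, hL, hdeep, rfl⟩
  refine prod_sub_one_eq_zero hX L hL t fun x => ?_
  by_contra hx
  push Not at hx
  have := hdeep 0 (fun _ => x) (fun _ => hx) fun i => i.elim0
  omega

end Groth.Agent.KFil28
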